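import Cfsg.Agent.Spor.Chk2
import Cfsg.Agent.Spor.Fi3510.D0

set_option autoImplicit false
set_option maxRecDepth 100000000
set_option Elab.async false
noncomputable section

namespace Cfsg.Agent.Spor.Fi3510.S

def W1 : List (List Nat) := [[1], [3], [5], [7], [9], [11], [13], [15], [17]]

def W2 : List (List Nat) := [[1], [5], [7], [9], [11], [13], [15], [17], [21]]

def M3 : Nat := nat_lit 0x180000000000000000000000000000900c000000000000200000000000009000000000000009000e000000000000000000050000000000000004b0000000000000026000380000000000000000000120068000000000000001cd80000000000201b0003000000000000009000000003401e1000000000000003bc00000000203c00100000000000000000d800000007803c170000000000000fc00000303c002000000000200000180003e000001e01e83e0000010000f800060f000000020000007000003c0007c0003c0fc03e00018047801c7800000000380000807c0003c01e00787e003c00e09e0670000000000004780008183c00f03c0e7f0021e06271b800000000000000000303c00c00f03c0e38efc0871973600000002180000000000001c0781e071c739be31cdef0000000020718800000000000fc1c71ce6df9bbf8000000010020e3994000000001fc739b7fbff00000000030003c736e0000000fcdbffff8000000014007e6ff000003efffff0000000f803efe0000ffff800001f00ff8003ffc0001d81fc00fe000760f8078007d0703003f430403ff42007fc801ff007c070440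

def M12 : Nat := nat_lit 0x3ffffffffffffffffffffffffffe7ffffffffffffffffffffffffffff6ff3ffffffffffffdfffffffffffff6ffffffffffffff6fff1fffffffffffffffffffafffffffffffffffb4ffffffffffffffd9fffc7fffffffffffffffffffedff97ffffffffffffffe327ffffffffffdfe4fffcffffffffffffff6ffffffffcbfe1effffffffffffffc43ffffffffdfc3ffefffffffffffffffff27fffffff87fc3e8fffffffffffff03fffffcfc3ffdfffffffffdfffffe7fffc1fffffe1fe17c1fffffeffff07fff9f0fffffffdffffff8fffffc3fff83fffc3f03fc1fffe7fb87fe387ffffffffc7ffff7f83fffc3fe1ff8781ffc3ff1f61f98ffffffffffffb87fff7e7c3ff0fc3f180ffde1f9d8e47fffffffffffffffffcfc3ff3ff0fc3f1c7103f78e68c9fffffffde7ffffffffffffe3f87e1f8e38c641ce3210ffffffffdf8e77fffffffffff03e38e3192064407fffffffeffdf1c66bffffffffe038c6480400fffffffffcfffc38c91fffffff032400007fffffffebff81900fffffc100000fffffff07fc101ffff00007ffffe0ff007ffc003fffe27e03ff01fff89f07f87ff82f8fcffc0bcfbfc00bdff8037fe00ff83f8fbbe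

def U : Tab := ⟨[n0, n1, n2, n3, n4, n5, n6, n7, n8, n9, n10], [⟨0, false, 0, 0, []⟩, ⟨0, false, 0, 0, []⟩, ⟨0, true, 0, 0, []⟩, ⟨1, false, 0, 0, []⟩, ⟨1, true, 0, 0, []⟩, ⟨2, false, 0, 0, []⟩, ⟨2, true, 0, 0, []⟩, ⟨3, false, 0, 0, []⟩, ⟨3, true, 0, 0, []⟩, ⟨4, false, 0, 0, []⟩, ⟨4, true, 0, 0, []⟩, ⟨5, false, 0, 0, []⟩, ⟨5, true, 0, 0, []⟩, ⟨6, false, 0, 0, []⟩, ⟨6, true, 0, 0, []⟩, ⟨7, false, 0, 0, []⟩, ⟨7, true, 0, 0, []⟩, ⟨8, false, 0, 0, []⟩, ⟨8, true, 0, 0, []⟩, ⟨9, false, 0, 0, []⟩, ⟨9, true, 0, 0, []⟩, ⟨10, false, 0, 0, []⟩, ⟨10, true, 0, 0, []⟩]⟩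

end Cfsg.Agent.Spor.Fi3510.S
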